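import Cfsg.Agent.H508.KB.Defs
import Cfsg.Agent.H735.S4822.Orb
import Cfsg.Agent.H678.Subnormal
import Cfsg.Agent.CharactersDeep.FeitLinear
import Cfsg.Agent.CharactersDeep.CosetAverage
import Cfsg.Agent.CharactersDeep.ExtUnique

/-!
# S4822, C3: characters of the principal block over the orbits of characters of `S` (helper546)

* `ker_add_kap_le`
* `two_ker_add_kap_le`
-/

set_option autoImplicit false
set_option linter.unusedSectionVars false

open Cfsg Subgroup Cfsg.Agent.H508.KB Cfsg.Agent.Characters.Core Cfsg.Agent.Blocks Cfsg.Agent.Blocks.Local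
open scoped ComplexConjugate

namespace Cfsg.Agent.H546.KB

universe u

variable {p : ℕ} [Fact p.Prime] {M : Ideal AlgInt} {A : Type u} [Group A] [Finite A] (S : Subgroup A) [hS : S.Normal]

/-- the class of the characters over the orbits outside a finite set -/
theorem count (hM : IsPModular p M) {ι : Type u} [Finite ι] (F₀ : ι → principalBlock M A)
    (hinj : Function.Injective F₀) (Q₀ : Finset (Quotient (orbSetoid M S)))
    (h : ∀ (i : ι) (θ : principalBlock M ↥S), Over S (F₀ i).1 θ.1 → Quotient.mk (orbSetoid M S) θ ∈ Q₀) :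
    Nat.card ι + kap M S ≤ kB M A + Q₀.card := by
  classical
  have hfA : Fintype A := Fintype.ofFinite A
  have hfS : Fintype ↥S := Fintype.ofFinite _
  have hfin : Finite (IrrCharacter A) := finite_irr
  have hfin2 : Finite (IrrCharacter ↥S) := finite_irr
  have hfin3 : Finite (Quotient (orbSetoid M S)) := Finite.of_surjective _ Quotient.mk_surjective
  obtain ⟨P⟩ : Nonempty (Sylow p A) := inferInstance
  have hPn : (P : Subgroup A) ≤ Subgroup.normalizer (S : Set A) := by
    rw [Subgroup.normalizer_eq_top]; exact le_top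
  choose χ hχ hover using fun q : Quotient (orbSetoid M S) =>
    H656.OverPrincipal.exists_over hM S P hPn q.out.1 q.out.2
  let F : ι ⊕ {q : Quotient (orbSetoid M S) // q ∉ Q₀} → principalBlock M A :=
    Sum.elim F₀ (fun q => ⟨χ q.1, hχ q.1⟩)
  have hcross : ∀ (i : ι) (q : {q : Quotient (orbSetoid M S) // q ∉ Q₀}), (F₀ i).1 ≠ χ q.1 := by
    intro i q hiq
    apply q.2
    have h1 := h i q.1.out (over_iff.2 (by rw [hiq]; exact hover q.1))
    rwa [Quotient.out_eq] at h1
  have hF : Function.Injective F := by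
    rintro (i | q) (j | q') hij
    · exact congrArg _ (hinj hij)
    · exact absurd (congrArg Subtype.val hij) (hcross i q')
    · exact absurd (congrArg Subtype.val hij).symm (hcross j q)
    · have h1 : χ q.1 = χ q'.1 := congrArg Subtype.val hij
      have h2 := hover q'.1
      rw [← h1] at h2
      obtain ⟨g, hg⟩ := Characters.Clifford.exists_conj_of_constituents S (χ q.1).2 q.1.out.1.2 q'.1.out.1.2
        (hover q.1) h2
      congr 1
      apply Subtype.ext
      rw [← Quotient.out_eq q.1, ← Quotient.out_eq q'.1]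
      exact Quotient.sound ⟨g, fun s => congrFun hg s⟩
  have h1 := Nat.card_le_card_of_injective F hF
  rw [Nat.card_sum] at h1
  have h2 : kap M S ≤ Nat.card {q : Quotient (orbSetoid M S) // q ∉ Q₀} + Q₀.card := by
    have := Fintype.ofFinite (Quotient (orbSetoid M S))
    unfold kap
    rw [Nat.card_eq_fintype_card, Nat.card_eq_fintype_card, Fintype.card_subtype_compl (fun q => q ∈ Q₀),
      Fintype.card_coe]
    omega
  unfold kB
  omega

/-- over a trivial restriction -/
theorem over_one {χ : IrrCharacter A} {θ : IrrCharacter ↥S} (h : ∀ s ∈ S, (χ : A → ℂ) s = (χ : A → ℂ) 1)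
    (ho : Over S χ θ) : (θ : ↥S → ℂ) = 1 := by
  classical
  have hfS : Fintype ↥S := Fintype.ofFinite _
  by_contra hne
  rw [over_iff] at ho
  apply ho
  have h1 : (fun n : ↥S => (χ : A → ℂ) n) = fun n : ↥S => (χ : A → ℂ) 1 * (1 : ↥S → ℂ) n := by
    funext n
    rw [h n n.2, Pi.one_apply, mul_one]
  rw [h1]
  have h3 := classInner_smul_left ((χ : A → ℂ) 1) (1 : ↥S → ℂ) (θ : ↥S → ℂ)
  rw [classInner_irr_ne isIrr_one θ.2 (fun h' => hne h'.symm), mul_zero] at h3
  exact h3

/-- over an irreducible restriction -/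
theorem over_irr {χ : IrrCharacter A} {θ : IrrCharacter ↥S} (h : IsIrrCharacter ↥S (fun s : ↥S => (χ : A → ℂ) s))
    (ho : Over S χ θ) : (θ : ↥S → ℂ) = fun s : ↥S => (χ : A → ℂ) s := by
  classical
  have hfS : Fintype ↥S := Fintype.ofFinite _
  by_contra hne
  rw [over_iff] at ho
  exact ho (classInner_irr_ne h θ.2 (fun h' => hne h'.symm))

/-- the type of characters counted by `ker` -/
abbrev Ker (M : Ideal AlgInt) : Type u :=
  {χ : IrrCharacter A // χ ∈ principalBlock M A ∧ ∀ s ∈ S, (χ : A → ℂ) s = (χ : A → ℂ) 1}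

/-- C3 -/
theorem ker_add_kap_le (hM : IsPModular p M) (_hcop : ¬ p ∣ S.index) : ker M S + kap M S ≤ kB M A + 1 := by
  classical
  have hMp : M.IsPrime := isPrime_of_isPModular hM
  have hfin : Finite (IrrCharacter A) := finite_irr
  have h := count S hM (ι := Ker S M) (fun χ => ⟨χ.1, χ.2.1⟩)
    (fun χ χ' h => Subtype.ext (congrArg (fun x : principalBlock M A => x.1) h))
    {Quotient.mk (orbSetoid M S) ⟨⟨fun _ => 1, Blocks.Basic.isIrrCharacter_one⟩,
      Blocks.PrincipalSection.one_mem_principalBlock⟩} (by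
    intro χ θ ho
    rw [Finset.mem_singleton]
    congr 1
    apply Subtype.ext
    apply Subtype.ext
    exact over_one S χ.2.2 ho)
  rwa [Finset.card_singleton] at h

/-- a character in the principal block of `A` with `S` in the kernel has the hull in the kernel -/
theorem apply_of_mem_hull (hM : IsPModular p M) (hcop : ¬ p ∣ S.index) {χ : IrrCharacter A}
    (hχ : χ ∈ principalBlock M A) (hχS : ∀ s ∈ S, (χ : A → ℂ) s = (χ : A → ℂ) 1) {x : A} (hx : x ∈ hull p S) :
    (χ : A → ℂ) x = (χ : A → ℂ) 1 := by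
  classical
  have hMp : M.IsPrime := isPrime_of_isPModular hM
  obtain ⟨β, hβ⟩ := H686.CharKit.exists_infl S χ hχS
  have hβ' : ∀ g : A, (β : A ⧸ S → ℂ) (g : A ⧸ S) = (χ : A → ℂ) g := by
    intro g
    rw [← H686.CharKit.infl_apply, hβ]
  have key : hull p S ≤ H686.CharKit.chKer χ := by
    refine sup_le hχS (iSup_le fun P => ?_)
    set C : Subgroup A := centralizer (((P : Subgroup ↥S).map S.subtype : Subgroup A) : Set A) with hC
    have hPidx : ¬ p ∣ ((P : Subgroup ↥S).map S.subtype : Subgroup A).index := by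
      rw [Subgroup.index_map_subtype]
      intro h
      rcases (Nat.Prime.dvd_mul Fact.out).1 h with h | h
      · exact P.not_dvd_index h
      · exact hcop h
    let P' : Sylow p A := IsPGroup.toSylow (P.isPGroup'.map S.subtype) hPidx
    have hP' : (P' : Subgroup A) = (P : Subgroup ↥S).map S.subtype := rfl
    have hKn : (S ⊔ C).Normal := by
      have h1 := H735.S4822.sup_normal S hcop P'
      rwa [hP'] at h1
    let L : Subgroup (A ⧸ S) := (S ⊔ C).map (QuotientGroup.mk' S)
    have hLn : L.Normal := hKn.map _ (QuotientGroup.mk'_surjective S)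
    have hfL : Fintype L := Fintype.ofFinite _
    have hLc : ∀ l : L, ∃ c ∈ C, ((c : A) : A ⧸ S) = l := by
      rintro ⟨l, k, hk, rfl⟩
      have hk' : k ∈ S ⊔ C := hk
      rw [← SetLike.mem_coe, Subgroup.normal_mul] at hk'
      obtain ⟨s, hs, c, hc, rfl⟩ := Set.mem_mul.1 hk'
      refine ⟨c, hc, ?_⟩
      show (c : A ⧸ S) = ((s * c : A) : A ⧸ S)
      rw [QuotientGroup.mk_mul, (QuotientGroup.eq_one_iff s).2 hs, one_mul]
    have hratio : ∀ l : L, MemLocalIdeal M ((β : A ⧸ S → ℂ) l / (β : A ⧸ S → ℂ) 1 - 1) := by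
      intro l
      obtain ⟨c, hc, hcl⟩ := hLc l
      have h1 := H685.Alperin.ratio_sub_one_of_centralizer hM P' hχ (g := c) (by rw [hP']; exact hc)
      rw [← hβ' c, ← hβ' 1, hcl] at h1
      exact h1
    have hsum : ∑ l : L, (β : A ⧸ S → ℂ) l ≠ 0 := by
      intro h0
      have h3 : MemLocalIdeal M (∑ l : L, ((β : A ⧸ S → ℂ) l / (β : A ⧸ S → ℂ) 1 - 1)) :=
        memLocalIdeal_sum fun l _ => hratio l
      rw [Finset.sum_sub_distrib, ← Finset.sum_div, h0, zero_div, zero_sub, memLocalIdeal_neg_iff,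
        Finset.sum_const, nsmul_eq_mul, mul_one, Finset.card_univ, ← Nat.card_eq_fintype_card,
        memLocalIdeal_natCast_iff hM] at h3
      apply hcop
      rw [Subgroup.index_eq_card]
      exact h3.trans (Subgroup.card_subgroup_dvd_card L)
    have hLker := H678.Subnormal.le_chKer_of_sum_ne_zero β L hsum
    intro c hc
    have h4 : ((c : A) : A ⧸ S) ∈ L := ⟨c, Subgroup.mem_sup_right hc, rfl⟩
    have h5 := hLker h4
    rw [H686.CharKit.mem_chKer, hβ'] at h5
    rw [H686.CharKit.mem_chKer, h5, ← hβ' 1]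
    rfl
  exact key hx

/-- multiplication by a linear character in the principal block -/
theorem mul_mem (hM : IsPModular p M) {l ψ ξ : IrrCharacter A} (hl : l ∈ principalBlock M A)
    (hl1 : (l : A → ℂ) 1 = 1) (hψ : ψ ∈ principalBlock M A) (hξ : (ξ : A → ℂ) = (l : A → ℂ) * (ψ : A → ℂ)) :
    ξ ∈ principalBlock M A := by
  have hMp : M.IsPrime := isPrime_of_isPModular hM
  rw [Blocks.PrincipalSection.mem_principalBlock_iff] at hl hψ ⊢
  intro g
  have h1 := hl g
  have h2 := hψ g
  rw [Blocks.Basic.centralChar_def, Blocks.Basic.centralChar_def] at h1 h2 ⊢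
  have hlg : MemLocalRing M ((l : A → ℂ) g) :=
    memLocalRing_of_isIntegral (Characters.GaloisBasic.isIntegral_apply (isIrr_isCharacter l.2) g)
  have h3 := memLocalIdeal_mul_left hlg h2
  have h4 := memLocalIdeal_add h1 h3
  rw [hξ, Pi.mul_apply, Pi.mul_apply, hl1]
  rw [hl1] at h4
  convert h4 using 1
  ring

/-- C3': with an extension of a nontrivial character (the characters of `A / hull` are linear) -/
theorem two_ker_add_kap_le (hM : IsPModular p M) (hcop : ¬ p ∣ S.index)
    (hab : ∀ a b : A, a * b * a⁻¹ * b⁻¹ ∈ hull p S) (ψ : IrrCharacter A) (hψ : ψ ∈ principalBlock M A)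
    (hirr : IsIrrCharacter S (fun s : S => (ψ : A → ℂ) s)) (h1 : ∃ s : S, (ψ : A → ℂ) s ≠ 1) :
    2 * ker M S + kap M S ≤ kB M A + 2 := by
  classical
  have hMp : M.IsPrime := isPrime_of_isPModular hM
  have hfA : Fintype A := Fintype.ofFinite A
  have hfS : Fintype ↥S := Fintype.ofFinite _
  have hfin : Finite (IrrCharacter A) := finite_irr
  -- the characters with `S` in the kernel are linear
  have hlin : ∀ χ : Ker S M, (χ.1 : A → ℂ) 1 = 1 := fun χ =>
    CharactersDeep.FeitLinear.apply_one_eq_one (hull p S) hab χ.1.2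
      fun k hk => apply_of_mem_hull S hM hcop χ.2.1 χ.2.2 hk
  -- the products
  have hprod : ∀ χ : Ker S M, IsIrrCharacter A ((χ.1 : A → ℂ) * (ψ : A → ℂ)) := by
    intro χ
    obtain ⟨ν, hν⟩ := CharactersDeep.LinearExt.exists_hom_of_isCharacter (isIrr_isCharacter χ.1.2) (hlin χ)
    have h2 := CharactersDeep.ExtUnique.isIrr_mul_hom ψ.2 ν
    have h3 : (fun g => (ψ : A → ℂ) g * (ν g : ℂ)) = (χ.1 : A → ℂ) * (ψ : A → ℂ) := by
      funext g
      rw [Pi.mul_apply, hν, mul_comm]
    rwa [h3] at h2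
  -- the restriction of the products
  have hres : ∀ (χ : Ker S M) (s : ↥S), ((χ.1 : A → ℂ) * (ψ : A → ℂ)) s = (ψ : A → ℂ) s := by
    intro χ s
    rw [Pi.mul_apply, χ.2.2 s s.2, hlin χ, one_mul]
  -- the restriction of `ψ` is not trivial
  have hψne : ¬ ∀ s ∈ S, (ψ : A → ℂ) s = (ψ : A → ℂ) 1 := by
    intro h
    have h2 : (fun s : ↥S => (ψ : A → ℂ) s) = 1 := by
      refine over_one S (χ := ψ) (θ := ⟨_, hirr⟩) h ?_
      rw [over_iff]
      show classInner (fun n : ↥S => (ψ : A → ℂ) n) (fun n : ↥S => (ψ : A → ℂ) n) ≠ 0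
      rw [classInner_irr_self hirr]
      exact one_ne_zero
    obtain ⟨s, hs⟩ := h1
    exact hs (congrFun h2 s)
  let F₀ : Ker S M ⊕ Ker S M → principalBlock M A :=
    Sum.elim (fun χ => ⟨χ.1, χ.2.1⟩) (fun χ => ⟨⟨_, hprod χ⟩, mul_mem hM χ.2.1 (hlin χ) hψ rfl⟩)
  have hcross : ∀ χ χ' : Ker S M, (χ.1 : A → ℂ) ≠ (χ'.1 : A → ℂ) * (ψ : A → ℂ) := by
    intro χ χ' h
    apply hψne
    intro s hs
    rw [← hres χ' ⟨s, hs⟩, ← h]
    have h2 := hres χ' 1
    rw [← h] at h2
    exact (χ.2.2 s hs).trans h2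
  have hinj : Function.Injective F₀ := by
    rintro (χ | χ) (χ' | χ') h
    · exact congrArg _ (Subtype.ext (congrArg (fun x : principalBlock M A => x.1) h))
    · exact absurd (congrArg (fun x : principalBlock M A => (x.1 : A → ℂ)) h) (hcross χ χ')
    · exact absurd (congrArg (fun x : principalBlock M A => (x.1 : A → ℂ)) h).symm (hcross χ' χ)
    · have h2 : (χ.1 : A → ℂ) * (ψ : A → ℂ) = (χ'.1 : A → ℂ) * (ψ : A → ℂ) :=
        congrArg (fun x : principalBlock M A => (x.1 : A → ℂ)) h
      congr 1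
      apply Subtype.ext
      apply Subtype.ext
      funext g
      -- the coset of `g`
      obtain ⟨s, hs⟩ : ∃ s : ↥S, (ψ : A → ℂ) (s * g) ≠ 0 := by
        by_contra hcon
        push Not at hcon
        have h3 := CharactersDeep.CosetAverage.cosetAverage_self S (ψ : A → ℂ) ψ.2 hirr g
        rw [Finset.sum_eq_zero (fun n _ => by rw [hcon n, zero_mul]), mul_zero] at h3
        exact zero_ne_one h3
      have h3 := congrFun h2 (s * g)
      rw [Pi.mul_apply, Pi.mul_apply] at h3
      have h4 := mul_right_cancel₀ hs h3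
      rwa [H686.CharKit.apply_mul_of_eq (isIrr_isCharacter χ.1.2) (χ.2.2 s s.2),
        H686.CharKit.apply_mul_of_eq (isIrr_isCharacter χ'.1.2) (χ'.2.2 s s.2)] at h4
  have h := count S hM F₀ hinj
    {Quotient.mk (orbSetoid M S) ⟨⟨fun _ => 1, Blocks.Basic.isIrrCharacter_one⟩,
      Blocks.PrincipalSection.one_mem_principalBlock⟩,
     Quotient.mk (orbSetoid M S) ⟨⟨_, hirr⟩, H685.Alperin.restrict_mem hM hψ hirr⟩} (by
    rintro (χ | χ) θ ho
    · refine Finset.mem_insert.2 (Or.inl ?_)
      congr 1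
      apply Subtype.ext
      apply Subtype.ext
      exact over_one S χ.2.2 ho
    · refine Finset.mem_insert.2 (Or.inr (Finset.mem_singleton.2 ?_))
      congr 1
      apply Subtype.ext
      apply Subtype.ext
      have h2 : (fun s : ↥S => ((F₀ (Sum.inr χ)).1 : A → ℂ) s) = fun s : ↥S => (ψ : A → ℂ) s :=
        funext fun s => hres χ s
      have h3 := over_irr S (χ := (F₀ (Sum.inr χ)).1) (θ := θ.1) (by rw [h2]; exact hirr) ho
      rw [h3, h2])
  rw [Nat.card_sum] at h
  have h4 : Nat.card (Ker S M) = ker M S := rfl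
  rw [h4] at h
  have h5 := h.trans (Nat.add_le_add_left Finset.card_le_two _)
  omega

end Cfsg.Agent.H546.KB
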